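import Cfsg.Agent.Lib.Extra.SuzUnique.CertTools
import Cfsg.Agent.Lib.Extra.SuzUnique.Short.Top.Data

/-! Generated certificate. -/

set_option autoImplicit false
set_option maxRecDepth 20000

namespace Cfsg.Lib.Extra.SuzUnique.ShortTop

open Cfsg.Lib.CosetEnum

theorem defs_0 : defsOK tabF 4000 0 = true := by decide +kernel

theorem defs_1 : defsOK tabF 4000 4000 = true := by decide +kernel

theorem defs_2 : defsOK tabF 363 8000 = true := by decide +kernel

theorem steps_0 : stepsOK relWords subWords tabF tabC 8363 1500 0 = true := by decide +kernel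

theorem steps_1 : stepsOK relWords subWords tabF tabC 8363 1500 1500 = true := by decide +kernel

theorem steps_2 : stepsOK relWords subWords tabF tabC 8363 1500 3000 = true := by decide +kernel

theorem steps_3 : stepsOK relWords subWords tabF tabC 8363 1500 4500 = true := by decide +kernel

theorem steps_4 : stepsOK relWords subWords tabF tabC 8363 1500 6000 = true := by decide +kernel

theorem steps_5 : stepsOK relWords subWords tabF tabC 8363 1500 7500 = true := by decide +kernel

theorem steps_6 : stepsOK relWords subWords tabF tabC 8363 1500 9000 = true := by decide +kernel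

theorem steps_7 : stepsOK relWords subWords tabF tabC 8363 1500 10500 = true := by decide +kernel

theorem steps_8 : stepsOK relWords subWords tabF tabC 8363 1500 12000 = true := by decide +kernel

theorem steps_9 : stepsOK relWords subWords tabF tabC 8363 1500 13500 = true := by decide +kernel

theorem steps_10 : stepsOK relWords subWords tabF tabC 8363 1500 15000 = true := by decide +kernel

theorem steps_11 : stepsOK relWords subWords tabF tabC 8363 1500 16500 = true := by decide +kernel

theorem steps_12 : stepsOK relWords subWords tabF tabC 8363 1500 18000 = true := by decide +kernel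

theorem steps_13 : stepsOK relWords subWords tabF tabC 8363 266 19500 = true := by decide +kernel

theorem closed_0 : closedOK tabF tabZ tabP 28129 1782 7 [0, 1, 2, 3, 4, 5, 6] 1000 0 = true := by decide +kernel

theorem closed_1 : closedOK tabF tabZ tabP 28129 1782 7 [0, 1, 2, 3, 4, 5, 6] 782 1000 = true := by decide +kernel

theorem steps_upto_1 : stepsOK relWords subWords tabF tabC 8363 3000 0 = true :=
  Cfsg.Lib.Extra.SuzUnique.steps_chain steps_0 steps_1 rfl

theorem steps_upto_2 : stepsOK relWords subWords tabF tabC 8363 4500 0 = true :=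
  Cfsg.Lib.Extra.SuzUnique.steps_chain steps_upto_1 steps_2 rfl

theorem steps_upto_3 : stepsOK relWords subWords tabF tabC 8363 6000 0 = true :=
  Cfsg.Lib.Extra.SuzUnique.steps_chain steps_upto_2 steps_3 rfl

theorem steps_upto_4 : stepsOK relWords subWords tabF tabC 8363 7500 0 = true :=
  Cfsg.Lib.Extra.SuzUnique.steps_chain steps_upto_3 steps_4 rfl

theorem steps_upto_5 : stepsOK relWords subWords tabF tabC 8363 9000 0 = true :=
  Cfsg.Lib.Extra.SuzUnique.steps_chain steps_upto_4 steps_5 rfl

theorem steps_upto_6 : stepsOK relWords subWords tabF tabC 8363 10500 0 = true :=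
  Cfsg.Lib.Extra.SuzUnique.steps_chain steps_upto_5 steps_6 rfl

theorem steps_upto_7 : stepsOK relWords subWords tabF tabC 8363 12000 0 = true :=
  Cfsg.Lib.Extra.SuzUnique.steps_chain steps_upto_6 steps_7 rfl

theorem steps_upto_8 : stepsOK relWords subWords tabF tabC 8363 13500 0 = true :=
  Cfsg.Lib.Extra.SuzUnique.steps_chain steps_upto_7 steps_8 rfl

theorem steps_upto_9 : stepsOK relWords subWords tabF tabC 8363 15000 0 = true :=
  Cfsg.Lib.Extra.SuzUnique.steps_chain steps_upto_8 steps_9 rfl

theorem steps_upto_10 : stepsOK relWords subWords tabF tabC 8363 16500 0 = true :=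
  Cfsg.Lib.Extra.SuzUnique.steps_chain steps_upto_9 steps_10 rfl

theorem steps_upto_11 : stepsOK relWords subWords tabF tabC 8363 18000 0 = true :=
  Cfsg.Lib.Extra.SuzUnique.steps_chain steps_upto_10 steps_11 rfl

theorem steps_upto_12 : stepsOK relWords subWords tabF tabC 8363 19500 0 = true :=
  Cfsg.Lib.Extra.SuzUnique.steps_chain steps_upto_11 steps_12 rfl

theorem steps_all : stepsOK relWords subWords tabF tabC 8363 19766 0 = true :=
  Cfsg.Lib.Extra.SuzUnique.steps_chain steps_upto_12 steps_13 rfl

theorem defs_upto_1 : defsOK tabF 8000 0 = true :=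
  Cfsg.Lib.Extra.SuzUnique.defs_chain defs_0 defs_1 rfl

theorem defs_all : defsOK tabF 8363 0 = true :=
  Cfsg.Lib.Extra.SuzUnique.defs_chain defs_upto_1 defs_2 rfl

theorem closed_all : closedOK tabF tabZ tabP 28129 1782 7 [0, 1, 2, 3, 4, 5, 6] 1782 0 = true :=
  Cfsg.Lib.Extra.SuzUnique.closed_chain closed_0 closed_1 rfl

/-- The step. -/
def step : StepCert :=
  ⟨relWords, subWords, [0, 1, 2, 3, 4, 5, 6], tabF, tabC, tabZ, tabP, 8363, 19766, 1782, 7⟩

theorem step_valid {R0 : List (List Nat)} (h : shiftsOK R0 relWords = true) : step.Valid R0 where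
  pos := by decide +kernel
  shifts := h
  defs := defs_all
  steps := steps_all
  closed := closed_all

end Cfsg.Lib.Extra.SuzUnique.ShortTop
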